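import Mathlib
import Cfsg.Agent.Lib.Burnside.FixedIrr
import Cfsg.Agent.Lib.Chars.Induced
import Cfsg.Agent.Lib.Chars.Integral
import Cfsg.Agent.Lib.Chars.Ops
import Cfsg.Agent.Lib.Clifford.Restriction

/-!
# Irreducible characters of a group with a normal subgroup containing the centralizers of its
non-identity elements
-/

set_option autoImplicit false

namespace Cfsg.Agent.Lib.TIFrob

open scoped ComplexConjugate
open Cfsg.Agent.Lib

variable {N : Type*} [Group N] [Fintype N] {K : Subgroup N} [hK : K.Normal]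

/-- The characters not having the subgroup in their kernel. -/
def Relevant (K : Subgroup N) (χ : N → ℂ) : Prop := ∃ k : N, k ∈ K ∧ χ k ≠ χ 1

omit [Fintype N] hK in
theorem not_relevant {χ : N → ℂ} (h : ¬ Relevant K χ) {k : N} (hk : k ∈ K) : χ k = χ 1 :=
  by_contra fun hne => h ⟨k, hk, hne⟩

variable (hC : ∀ k ∈ K, k ≠ 1 → Subgroup.centralizer ({k} : Set N) ≤ K)
include hC

/-- Only the principal character of the kernel is fixed by an outside element. -/
theorem fixed_eq_trivial {g : N} (hg : g ∉ K) (θ : Cfsg.IrrCharacter K)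
    (hθ : Clifford.conjFun g (θ : K → ℂ) = θ) : θ = Chars.trivialIrr K := by
  set α : K ≃* K := (MulAut.conjNormal g : MulAut K)
  have hcard := Burnside.card_fixed_irrCharacter α
  have hsub : Subsingleton {C : ConjClasses K // ConjClasses.map α.toMonoidHom C = C} := by
    have h1 : ∀ C : ConjClasses K, ConjClasses.map α.toMonoidHom C = C → C = ConjClasses.mk 1 := by
      intro C hC'
      obtain ⟨k, rfl⟩ := ConjClasses.exists_rep C
      change ConjClasses.mk (α k) = ConjClasses.mk k at hC'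
      rw [ConjClasses.mk_eq_mk_iff_isConj, isConj_iff] at hC'
      obtain ⟨c, hc⟩ := hC'
      by_contra hne
      have hk1 : (k : N) ≠ 1 := fun e => hne (by rw [show k = 1 from Subtype.ext e])
      have hc' : (c : N) * (g * k * g⁻¹) * (c : N)⁻¹ = k := by
        simpa [α] using congrArg Subtype.val hc
      have hmem : (c : N) * g ∈ Subgroup.centralizer ({(k : N)} : Set N) := by
        rw [Subgroup.mem_centralizer_singleton_iff]
        conv_rhs => rw [← hc']
        group
      have := K.mul_mem (K.inv_mem c.2) (hC k k.2 hk1 hmem)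
      rw [inv_mul_cancel_left] at this
      exact hg this
    exact ⟨fun a b => Subtype.ext ((h1 a.1 a.2).trans (h1 b.1 b.2).symm)⟩
  have : Nat.card {χ : Cfsg.IrrCharacter K // (χ : K → ℂ) ∘ α = (χ : K → ℂ)} ≤ 1 := by
    rw [hcard]
    exact Finite.card_le_one_iff_subsingleton.mpr hsub
  have hs := Finite.card_le_one_iff_subsingleton.mp this
  have hval : (θ : K → ℂ) ∘ α = θ := by
    funext x
    conv_rhs => rw [← hθ]
    rfl
  exact congrArg Subtype.val (hs.elim ⟨θ, hval⟩ ⟨Chars.trivialIrr K, rfl⟩)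

/-- A character not trivial on the kernel is induced from a non-principal character of it. -/
theorem exists_eq_indFun [Fintype K] (χ : Cfsg.IrrCharacter N) (hχ : Relevant K (χ : N → ℂ)) :
    ∃ θ : Cfsg.IrrCharacter K, θ ≠ Chars.trivialIrr K ∧
      (χ : N → ℂ) = Cfsg.indFun K (θ : K → ℂ) := by
  classical
  have hres : Cfsg.IsCharacter K (Clifford.resFun K (χ : N → ℂ)) :=
    Chars.isCharacter_restrict K (Chars.irr_isCharacter χ)
  obtain ⟨θ, hθ⟩ : ∃ θ : Cfsg.IrrCharacter K,
      Cfsg.classInner (Clifford.resFun K (χ : N → ℂ)) (θ : K → ℂ) ≠ 0 := by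
    by_contra! h0
    have := congrFun (Chars.isCharacter_eq_sum_classInner hres) 1
    simp only [h0, zero_smul, Finset.sum_const_zero, Pi.zero_apply, Clifford.resFun_apply,
      OneMemClass.coe_one] at this
    exact Chars.irr_apply_one_ne_zero χ this
  have hne : θ ≠ Chars.trivialIrr K := by
    rintro rfl
    obtain ⟨k, hk, hkne⟩ := hχ
    have h := Clifford.resFun_eq_smul_of_invariant χ.2 (Chars.trivialIrr K).2 hθ fun g => rfl
    refine hkne ?_
    have h1 := congrFun h ⟨k, hk⟩
    have h2 := congrFun h 1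
    simp only [Clifford.resFun_apply, Pi.smul_apply, Chars.trivialIrr_apply, OneMemClass.coe_one]
      at h1 h2
    rw [h1, h2]
  refine ⟨θ, hne, ?_⟩
  have hind : Cfsg.IsCharacter N (Cfsg.indFun K (θ : K → ℂ)) :=
    Chars.isCharacter_indFun K (Chars.irr_isCharacter θ)
  have hirr : Cfsg.IsIrrCharacter N (Cfsg.indFun K (θ : K → ℂ)) := by
    rw [Chars.isIrrCharacter_iff_classInner_eq_one hind,
      Chars.classInner_indFun_right K _ _ (Chars.isClassFunction_indFun K _)]
    show Cfsg.classInner (Clifford.resFun K (Cfsg.indFun K (θ : K → ℂ))) (θ : K → ℂ) = 1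
    rw [Clifford.resFun_indFun, Chars.classInner_smul_left, Chars.classInner_sum_left,
      ← Finset.sum_filter_add_sum_filter_not Finset.univ (fun g : N => g ∈ K)]
    have hin : ∀ g ∈ Finset.univ.filter (fun g : N => g ∈ K),
        Cfsg.classInner (Clifford.conjFun g (θ : K → ℂ)) (θ : K → ℂ) = 1 := by
      intro g hg
      have hgK := (Finset.mem_filter.mp hg).2
      have : Clifford.conjFun g (θ : K → ℂ) = θ := funext fun x =>
        Chars.irr_isClassFunction θ x ⟨g, hgK⟩
      rw [this, Chars.classInner_irr_self]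
    have hout : ∀ g ∈ Finset.univ.filter (fun g : N => ¬ g ∈ K),
        Cfsg.classInner (Clifford.conjFun g (θ : K → ℂ)) (θ : K → ℂ) = 0 := by
      intro g hg
      refine Chars.classInner_irr_of_ne (χ := ⟨_, Clifford.isIrrCharacter_conjFun g θ.2⟩)
        fun e => hne ?_
      exact fixed_eq_trivial hC (Finset.mem_filter.mp hg).2 θ (congrArg Subtype.val e)
    rw [Finset.sum_congr rfl hin, Finset.sum_congr rfl hout, Finset.sum_const, Finset.sum_const_zero,
      add_zero, nsmul_eq_mul, mul_one, ← Fintype.card_subtype, Fintype.card_eq_nat_card,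
      inv_mul_cancel₀ (Nat.cast_ne_zero.mpr Nat.card_pos.ne')]
  have hpair : Cfsg.classInner (χ : N → ℂ) (Cfsg.indFun K (θ : K → ℂ)) ≠ 0 := by
    rw [Chars.classInner_indFun_right K _ _ (Chars.irr_isClassFunction χ)]
    exact hθ
  let ψ : Cfsg.IrrCharacter N := ⟨Cfsg.indFun K (θ : K → ℂ), hirr⟩
  have he : χ = ψ := by
    by_contra hn
    exact hpair (Chars.classInner_irr_of_ne (χ := χ) (ψ := ψ) hn)
  rw [he]

/-- Such characters vanish outside the kernel. -/
theorem apply_eq_zero (χ : Cfsg.IrrCharacter N) (hχ : Relevant K (χ : N → ℂ)) {x : N}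
    (hx : x ∉ K) : (χ : N → ℂ) x = 0 := by
  have : Fintype K := Fintype.ofFinite K
  obtain ⟨θ, -, h⟩ := exists_eq_indFun hC χ hχ
  rw [h, Cfsg.indFun, Finset.sum_eq_zero, mul_zero]
  intro g _
  refine Chars.extendByZero_of_not_mem _ fun hm => hx ?_
  have := hK.conj_mem _ hm g
  simpa [mul_assoc] using this

/-- Their degrees are the index times a divisor of the order of the kernel. -/
theorem exists_degree (χ : Cfsg.IrrCharacter N) (hχ : Relevant K (χ : N → ℂ)) :
    ∃ d : ℕ, 0 < d ∧ d ∣ Nat.card K ∧ (χ : N → ℂ) 1 = (K.index : ℂ) * d := by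
  have : Fintype K := Fintype.ofFinite K
  obtain ⟨θ, -, h⟩ := exists_eq_indFun hC χ hχ
  obtain ⟨d, hd0, hd, hdvd⟩ := Chars.irr_degree_dvd_card θ
  exact ⟨d, hd0, hdvd, by rw [h, Chars.indFun_one_eq, hd]⟩

/-- Their degrees are the index for an abelian kernel. -/
theorem degree_of_comm [IsMulCommutative K] (χ : Cfsg.IrrCharacter N)
    (hχ : Relevant K (χ : N → ℂ)) : (χ : N → ℂ) 1 = (K.index : ℂ) := by
  have : Fintype K := Fintype.ofFinite K
  obtain ⟨θ, -, h⟩ := exists_eq_indFun hC χ hχ
  rw [h, Chars.indFun_one_eq, Chars.irr_apply_one_of_comm, mul_one]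

/-- Their values on the kernel sum to zero. -/
theorem sum_kernel_eq_zero [Fintype K] (χ : Cfsg.IrrCharacter N) (hχ : Relevant K (χ : N → ℂ)) :
    ∑ k : K, (χ : N → ℂ) k = 0 := by
  classical
  obtain ⟨θ, hne, h⟩ := exists_eq_indFun hC χ hχ
  have h0 : ∀ g : N, ∑ k : K, Clifford.conjFun g (θ : K → ℂ) k = 0 := by
    intro g
    have := Chars.classInner_irr_of_ne (χ := ⟨_, Clifford.isIrrCharacter_conjFun g θ.2⟩)
      (ψ := Chars.trivialIrr K) (fun e => hne (Subtype.ext (by
        rw [← Clifford.conjFun_one (θ : K → ℂ), show (1 : N) = g * g⁻¹ by simp,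
          Clifford.conjFun_mul, show Clifford.conjFun g (θ : K → ℂ) = _ from congrArg Subtype.val e]
        rfl)))
    simp only [Cfsg.classInner, Chars.trivialIrr_apply, map_one, mul_one] at this
    exact (mul_eq_zero.mp this).resolve_left (inv_ne_zero (Nat.cast_ne_zero.mpr Nat.card_pos.ne'))
  rw [h]
  show ∑ k : K, Clifford.resFun K (Cfsg.indFun K (θ : K → ℂ)) k = 0
  simp only [Clifford.resFun_indFun, Pi.smul_apply, Finset.sum_apply, smul_eq_mul, ← Finset.mul_sum]
  rw [Finset.sum_comm, Finset.sum_eq_zero (fun g _ => h0 g), mul_zero]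

open Classical in
/-- The squares of the other degrees sum to the index. -/
theorem sum_not_relevant :
    ∑ η ∈ Finset.univ.filter (fun η : Cfsg.IrrCharacter N => ¬ Relevant K (η : N → ℂ)),
      (η : N → ℂ) 1 * (η : N → ℂ) 1 = (K.index : ℂ) := by
  have : Fintype K := Fintype.ofFinite K
  have h : ∑ η : Cfsg.IrrCharacter N, (η : N → ℂ) 1 * ∑ k : K, (η : N → ℂ) k
      = (Nat.card N : ℂ) := by
    simp only [Finset.mul_sum]
    rw [Finset.sum_comm, Finset.sum_congr rfl fun (k : K) _ => Chars.sum_degree_mul_irr (k : N)]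
    simp
  rw [← Finset.sum_filter_add_sum_filter_not Finset.univ
      (fun η : Cfsg.IrrCharacter N => Relevant K (η : N → ℂ)),
    Finset.sum_eq_zero (fun η hη => by
      rw [sum_kernel_eq_zero hC η (Finset.mem_filter.mp hη).2, mul_zero]), zero_add,
    Finset.sum_congr rfl (g := fun η : Cfsg.IrrCharacter N =>
      (Nat.card K : ℂ) * ((η : N → ℂ) 1 * (η : N → ℂ) 1)) (fun η hη => by
      rw [Finset.sum_congr rfl fun (k : K) _ => not_relevant (Finset.mem_filter.mp hη).2 k.2,
        Finset.sum_const, Finset.card_univ, Fintype.card_eq_nat_card, nsmul_eq_mul]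
      ring), ← Finset.mul_sum, ← K.card_mul_index, Nat.cast_mul] at h
  exact mul_left_cancel₀ (Nat.cast_ne_zero.mpr Nat.card_pos.ne') h

open Classical in
/-- The second orthogonality relation restricted to the characters of the kernel. -/
theorem sum_relevant {k : N} (hk : k ∈ K) :
    ∑ χ ∈ Finset.univ.filter (fun χ : Cfsg.IrrCharacter N => Relevant K (χ : N → ℂ)),
      (χ : N → ℂ) 1 * (χ : N → ℂ) k = (if k = 1 then (Nat.card N : ℂ) else 0) - (K.index : ℂ) := by
  rw [← sum_not_relevant hC, ← Chars.sum_degree_mul_irr k,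
    ← Finset.sum_filter_add_sum_filter_not Finset.univ
      (fun χ : Cfsg.IrrCharacter N => Relevant K (χ : N → ℂ)),
    Finset.sum_congr rfl (s₁ := Finset.univ.filter fun χ : Cfsg.IrrCharacter N =>
      ¬ Relevant K (χ : N → ℂ)) fun η hη => by rw [not_relevant (Finset.mem_filter.mp hη).2 hk]]
  ring

/-- With two of them, none is constant on the non-identity elements of the kernel. -/
theorem not_constant (χ ξ : Cfsg.IrrCharacter N) (hχ : Relevant K (χ : N → ℂ))
    (hξ : Relevant K (ξ : N → ℂ)) (hne : χ ≠ ξ) :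
    ∃ k ∈ K, ∃ l ∈ K, k ≠ 1 ∧ l ≠ 1 ∧ (χ : N → ℂ) k ≠ (χ : N → ℂ) l := by
  classical
  have : Fintype K := Fintype.ofFinite K
  obtain ⟨k₀, hk₀, hk₀ne⟩ := hχ
  have hk01 : k₀ ≠ 1 := fun e => hk₀ne (by rw [e])
  by_contra hcon
  push Not at hcon
  set c := (χ : N → ℂ) k₀
  have hval : ∀ k : K, (χ : N → ℂ) k = c + if k = 1 then (χ : N → ℂ) 1 - c else 0 := by
    intro k
    split_ifs with h
    · rw [h, OneMemClass.coe_one]; ring
    · rw [add_zero]
      exact hcon _ k.2 _ hk₀ (fun e => h (Subtype.ext e)) hk01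
  have hs := sum_kernel_eq_zero hC χ ⟨k₀, hk₀, hk₀ne⟩
  rw [Finset.sum_congr rfl fun k _ => hval k] at hs
  simp only [Finset.sum_add_distrib, Finset.sum_const, Finset.sum_ite_eq', Finset.mem_univ,
    if_true, Finset.card_univ, nsmul_eq_mul] at hs
  have h0 := Chars.classInner_irr_of_ne hne
  rw [Cfsg.classInner, mul_eq_zero,
    ← Finset.sum_filter_add_sum_filter_not Finset.univ (fun g : N => g ∈ K),
    Finset.sum_eq_zero (s := Finset.univ.filter fun g : N => ¬ g ∈ K) (fun g hg => by
      rw [apply_eq_zero hC χ ⟨k₀, hk₀, hk₀ne⟩ (Finset.mem_filter.mp hg).2, zero_mul]), add_zero,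
    Finset.sum_subtype (p := fun g => g ∈ K) (Finset.univ.filter fun g : N => g ∈ K) (fun g => by simp)
      (fun g => (χ : N → ℂ) g * conj ((ξ : N → ℂ) g))] at h0
  have h1 := h0.resolve_left (inv_ne_zero (Nat.cast_ne_zero.mpr Nat.card_pos.ne'))
  rw [Finset.sum_congr rfl fun k _ => by rw [hval k, add_mul, ite_mul, zero_mul],
    Finset.sum_add_distrib, Finset.sum_ite_eq', if_pos (Finset.mem_univ _), ← Finset.mul_sum,
    ← map_sum, sum_kernel_eq_zero hC ξ hξ, map_zero, mul_zero, zero_add, OneMemClass.coe_one,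
    mul_eq_zero] at h1
  rcases h1 with h1 | h1
  · exact hk₀ne (sub_eq_zero.mp h1).symm
  · exact Chars.irr_apply_one_ne_zero ξ ((map_eq_zero (starRingEnd ℂ)).mp h1)

end Cfsg.Agent.Lib.TIFrob
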