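import Mathlib
import Cfsg.Agent.Lib.TIFrob.Structure
import Cfsg.Agent.S0850

/-!
# Induction from the normalizer of a trivial-intersection subgroup with Frobenius normalizer
-/

set_option autoImplicit false

namespace Cfsg.Agent.Lib.TIFrob

open Cfsg.Agent.Lib

variable {G : Type*} [Group G] [Fintype G] (K : Subgroup G)

omit [Fintype G] in
/-- The subgroup inside its normalizer contains the centralizers of its non-identity elements. -/
theorem centralizer_le_subgroupOf
    (hC : ∀ k ∈ K, k ≠ 1 → Subgroup.centralizer ({k} : Set G) ≤ K)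
    (k : Subgroup.normalizer (K : Set G))
    (hk : k ∈ K.subgroupOf (Subgroup.normalizer (K : Set G))) (h1 : k ≠ 1) :
    Subgroup.centralizer ({k} : Set (Subgroup.normalizer (K : Set G))) ≤
      K.subgroupOf (Subgroup.normalizer (K : Set G)) := by
  intro x hx
  refine Subgroup.mem_subgroupOf.mpr
    (hC k (Subgroup.mem_subgroupOf.mp hk) (fun e => h1 (Subtype.ext e)) ?_)
  rw [Subgroup.mem_centralizer_singleton_iff] at hx ⊢
  exact congrArg Subtype.val hx

variable (hTI : ∀ g : G, g ∉ Subgroup.normalizer (K : Set G) → ∀ k ∈ K, g * k * g⁻¹ ∈ K → k = 1)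
  (hlt : K < Subgroup.normalizer (K : Set G))
  (hC : ∀ k ∈ K, k ≠ 1 → Subgroup.centralizer ({k} : Set G) ≤ K)
include hTI hlt hC

/-- Induction is an isometry on class functions of the normalizer supported on the subgroup and
vanishing at the identity. -/
theorem classInner_indFun_indFun [Fintype (Subgroup.normalizer (K : Set G))]
    {α β : Subgroup.normalizer (K : Set G) → ℂ}
    (hβ : Cfsg.IsClassFunction (Subgroup.normalizer (K : Set G)) β)
    (hβK : ∀ x : Subgroup.normalizer (K : Set G), (x : G) ∉ K → β x = 0) (hβ1 : β 1 = 0) :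
    Cfsg.classInner (Cfsg.indFun _ α) (Cfsg.indFun _ β) = Cfsg.classInner α β := by
  rw [Chars.classInner_indFun_left _ α _ (Chars.isClassFunction_indFun _ β)]
  congr 1
  exact funext fun x => (S0850.result K hTI hlt hC).2 β hβ hβK hβ1 x

end Cfsg.Agent.Lib.TIFrob
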