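import Mathlib
import Cfsg.Agent.Lib.TIFrob.Induced
import Cfsg.Agent.Lib.Coherence.Linear
import Cfsg.Agent.Lib.Coherence.Virtual
import Cfsg.Agent.Lib.CharExt.CentralDegree

/-!
# Values of the exceptional characters of a coherent family on a TI subgroup
-/

set_option autoImplicit false

namespace Cfsg.Agent.Lib.TIFrob

open scoped ComplexConjugate
open Cfsg.Agent.Lib

variable {G : Type*} [Group G] [Fintype G] {K : Subgroup G}
  [Fintype (Subgroup.normalizer (K : Set G))]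
  {S : Set (↥(Subgroup.normalizer (K : Set G)) → ℂ)}
  {star : (↥(Subgroup.normalizer (K : Set G)) → ℂ) → (G → ℂ)}
  (hTI : ∀ g : G, g ∉ Subgroup.normalizer (K : Set G) → ∀ k ∈ K, g * k * g⁻¹ ∈ K → k = 1)
  (hlt : K < Subgroup.normalizer (K : Set G))
  (hC : ∀ k ∈ K, k ≠ 1 → Subgroup.centralizer ({k} : Set G) ≤ K)
  (hS : ∀ χ, χ ∈ S ↔ Cfsg.IsIrrCharacter ↥(Subgroup.normalizer (K : Set G)) χ ∧
    Relevant (K.subgroupOf (Subgroup.normalizer (K : Set G))) χ)
  (hstar : Cfsg.IsLinearIsometryOn (Cfsg.zspan S) star)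
  (hext : ∀ α ∈ Cfsg.zspanOn S ({1}ᶜ : Set ↥(Subgroup.normalizer (K : Set G))),
    star α = Cfsg.indFun (Subgroup.normalizer (K : Set G)) α)
include hTI hlt hC hS hstar hext

local notation "N" => Subgroup.normalizer (K : Set G)
local notation "K'" => Subgroup.subgroupOf K (Subgroup.normalizer (K : Set G))

omit hTI hlt hC in
/-- The extending map on the difference of multiples of two members of the same degree. -/
theorem star_diff (χ ξ : Cfsg.IrrCharacter N) (hχ : Relevant K' (χ : N → ℂ))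
    (hξ : Relevant K' (ξ : N → ℂ)) (a b : ℕ)
    (hab : (a : ℂ) * (χ : N → ℂ) 1 = (b : ℂ) * (ξ : N → ℂ) 1) :
    Cfsg.indFun N ((a : ℂ) • (χ : N → ℂ) - (b : ℂ) • (ξ : N → ℂ))
      = (a : ℂ) • star (χ : N → ℂ) - (b : ℂ) • star (ξ : N → ℂ) := by
  have h1 : (χ : N → ℂ) ∈ Cfsg.zspan S := Coherence.zspan_subset ((hS _).mpr ⟨χ.2, hχ⟩)
  have h2 : (ξ : N → ℂ) ∈ Cfsg.zspan S := Coherence.zspan_subset ((hS _).mpr ⟨ξ.2, hξ⟩)
  have h1' := Coherence.zspan_natCast_smul a h1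
  have h2' := Coherence.zspan_natCast_smul b h2
  rw [← hext _ (Coherence.mem_on_one.mpr ⟨Coherence.zspan_sub h1' h2', by simp [hab]⟩),
    Coherence.map_sub_of_iso (Coherence.iso_on_span hstar) h1' h2',
    Coherence.map_natCast_smul_of_iso (Coherence.iso_on_span hstar) a h1,
    Coherence.map_natCast_smul_of_iso (Coherence.iso_on_span hstar) b h2]

/-- The images and the members differ by a function proportional to the degree on `K`. -/
theorem star_sub_cross (χ ξ : Cfsg.IrrCharacter N) (hχ : Relevant K' (χ : N → ℂ))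
    (hξ : Relevant K' (ξ : N → ℂ)) (k : N) (_hk : (k : G) ∈ K) :
    (ξ : N → ℂ) 1 * (star (χ : N → ℂ) k - (χ : N → ℂ) k)
      = (χ : N → ℂ) 1 * (star (ξ : N → ℂ) k - (ξ : N → ℂ) k) := by
  have hKn : (K' : Subgroup N).Normal := Subgroup.normal_in_normalizer
  obtain ⟨a, -, ha⟩ := Chars.isIrrCharacter_exists_degree_pos ξ.2
  obtain ⟨b, -, hb⟩ := Chars.isIrrCharacter_exists_degree_pos χ.2
  have h := congrFun (star_diff hS hstar hext χ ξ hχ hξ a b (by rw [ha, hb, mul_comm])) (k : G)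
  rw [(S0850.result K hTI hlt hC).2 ((a : ℂ) • (χ : N → ℂ) - (b : ℂ) • (ξ : N → ℂ))
    (Chars.isClassFunction_sub (Chars.isClassFunction_smul _ (Chars.irr_isClassFunction χ))
      (Chars.isClassFunction_smul _ (Chars.irr_isClassFunction ξ)))
    (fun x hx => by
      simp [apply_eq_zero (centralizer_le_subgroupOf K hC) χ hχ (x := x) hx,
        apply_eq_zero (centralizer_le_subgroupOf K hC) ξ hξ (x := x) hx])
    (by simp [ha, hb, mul_comm]) k] at h
  simp only [Pi.sub_apply, Pi.smul_apply, smul_eq_mul] at h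
  rw [ha, hb]
  linear_combination -h

omit hTI hlt in
open Classical in
/-- The restriction of an irreducible character to the non-identity elements of `K`. -/
theorem exists_restrict_eq (χ₀ : Cfsg.IrrCharacter N) (hχ₀ : Relevant K' (χ₀ : N → ℂ))
    (ψ : Cfsg.IrrCharacter G) :
    ∃ (q : ℤ) (lam : ℂ),
      (∀ k : N, (k : G) ∈ K → k ≠ 1 → (ψ : G → ℂ) k = (q : ℂ) - ((K' : Subgroup N).index : ℂ) * lam +
        ∑ χ ∈ Finset.univ.filter (fun χ : Cfsg.IrrCharacter N => Relevant K' (χ : N → ℂ)),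
          Cfsg.classInner (ψ : G → ℂ) (star (χ : N → ℂ)) * (χ : N → ℂ) k) ∧
      ∀ χ : Cfsg.IrrCharacter N, Relevant K' (χ : N → ℂ) → ∃ c : ℕ,
        (c : ℂ) = Cfsg.classInner (ψ : G → ℂ) (star (χ : N → ℂ)) + lam * (χ : N → ℂ) 1 := by
  have hKn : (K' : Subgroup N).Normal := Subgroup.normal_in_normalizer
  have hC' := centralizer_le_subgroupOf K hC
  have hres : Cfsg.IsCharacter N (fun x : N => (ψ : G → ℂ) x) :=
    Chars.isCharacter_restrict N (Chars.irr_isCharacter ψ)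
  choose c hc using fun η : Cfsg.IrrCharacter N =>
    Chars.isCharacter_classInner_nat hres (Chars.irr_isCharacter η)
  choose dg hdg0 hdg using fun η : Cfsg.IrrCharacter N => Chars.isIrrCharacter_exists_degree_pos η.2
  let s : Cfsg.IrrCharacter N → ℂ := fun χ => Cfsg.classInner (ψ : G → ℂ) (star (χ : N → ℂ))
  let lam : ℂ := ((c χ₀ : ℂ) - s χ₀) / (χ₀ : N → ℂ) 1
  have hlam : ∀ χ : Cfsg.IrrCharacter N, Relevant K' (χ : N → ℂ) →
      (c χ : ℂ) = s χ + lam * (χ : N → ℂ) 1 := by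
    intro χ hχ
    obtain ⟨a, -, ha⟩ := Chars.isIrrCharacter_exists_degree_pos χ₀.2
    obtain ⟨b, -, hb⟩ := Chars.isIrrCharacter_exists_degree_pos χ.2
    have h := Chars.classInner_indFun_right N ((a : ℂ) • (χ : N → ℂ) - (b : ℂ) • (χ₀ : N → ℂ))
      (ψ : G → ℂ) (Chars.irr_isClassFunction ψ)
    rw [star_diff hS hstar hext χ χ₀ hχ hχ₀ a b (by rw [ha, hb, mul_comm]),
      Chars.classInner_sub_right, Chars.classInner_smul_right, Chars.classInner_smul_right,
      Chars.classInner_sub_right, Chars.classInner_smul_right, Chars.classInner_smul_right,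
      Complex.conj_natCast, Complex.conj_natCast, hc, hc, ← ha, ← hb] at h
    have h0 := Chars.irr_apply_one_ne_zero χ₀
    simp only [s, lam]
    field_simp
    linear_combination -h
  refine ⟨∑ η ∈ Finset.univ.filter (fun η : Cfsg.IrrCharacter N => ¬ Relevant K' (η : N → ℂ)),
    (c η : ℤ) * (dg η : ℤ), lam, fun k hk hk1 => ?_, fun χ hχ => ⟨c χ, hlam χ hχ⟩⟩
  have hexp := congrFun (Chars.isCharacter_eq_sum_classInner hres) k
  simp only [hc, Finset.sum_apply, Pi.smul_apply, smul_eq_mul] at hexp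
  have hsum := sum_relevant hC' (k := k) hk
  rw [if_neg hk1, zero_sub] at hsum
  rw [hexp, ← Finset.sum_filter_add_sum_filter_not Finset.univ
      (fun η : Cfsg.IrrCharacter N => Relevant K' (η : N → ℂ)),
    Finset.sum_congr rfl (fun χ hχ => by
      rw [hlam χ (Finset.mem_filter.mp hχ).2, add_mul, mul_assoc]),
    Finset.sum_add_distrib, ← Finset.mul_sum, hsum, Int.cast_sum,
    Finset.sum_congr rfl (s₁ := Finset.univ.filter fun η : Cfsg.IrrCharacter N =>
      ¬ Relevant K' (η : N → ℂ)) (fun η hη => by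
        rw [not_relevant (Finset.mem_filter.mp hη).2 hk,
          show (c η : ℂ) * (η : N → ℂ) 1 = (((c η : ℤ) * (dg η : ℤ) : ℤ) : ℂ) by
            rw [hdg η]; push_cast; ring])]
  ring

omit hTI hlt hC hext in
/-- The image of a member is a signed irreducible character. -/
theorem exists_signed (χ : Cfsg.IrrCharacter N) (hχ : Relevant K' (χ : N → ℂ)) :
    ∃ (ε : ℤ) (ψ : Cfsg.IrrCharacter G), (ε = 1 ∨ ε = -1) ∧
      star (χ : N → ℂ) = (ε : ℂ) • (ψ : G → ℂ) ∧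
      ∀ ξ : Cfsg.IrrCharacter N, Relevant K' (ξ : N → ℂ) →
        Cfsg.classInner (ψ : G → ℂ) (star (ξ : N → ℂ)) = if ξ = χ then (ε : ℂ) else 0 := by
  classical
  have hm : ∀ ξ : Cfsg.IrrCharacter N, Relevant K' (ξ : N → ℂ) → (ξ : N → ℂ) ∈ Cfsg.zspan S :=
    fun ξ hξ => Coherence.zspan_subset ((hS _).mpr ⟨ξ.2, hξ⟩)
  have hinner : ∀ ξ : Cfsg.IrrCharacter N, Relevant K' (ξ : N → ℂ) →
      Cfsg.classInner (star (χ : N → ℂ)) (star (ξ : N → ℂ)) = if ξ = χ then 1 else 0 := by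
    intro ξ hξ
    rw [hstar.2.2.1 _ (hm χ hχ) _ (hm ξ hξ), Chars.classInner_irr]
    exact if_congr eq_comm rfl rfl
  obtain ⟨ε, ψ, hε, he⟩ : ∃ (ε : ℤ) (ψ : Cfsg.IrrCharacter G), (ε = 1 ∨ ε = -1) ∧
      star (χ : N → ℂ) = (ε : ℂ) • (ψ : G → ℂ) := by
    rcases Coherence.signed_of_norm_one (hstar.2.2.2 _ (hm χ hχ))
      (by rw [hinner χ hχ, if_pos rfl]) with h | h
    · exact ⟨1, ⟨_, h⟩, Or.inl rfl, by simp⟩
    · exact ⟨-1, ⟨_, h⟩, Or.inr rfl, by simp⟩
  refine ⟨ε, ψ, hε, he, fun ξ hξ => ?_⟩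
  have h := hinner ξ hξ
  rw [he, Chars.classInner_smul_left] at h
  have hε2 : (ε : ℂ) * ε = 1 := by rcases hε with rfl | rfl <;> simp
  calc Cfsg.classInner (ψ : G → ℂ) (star (ξ : N → ℂ))
      = (ε : ℂ) * ((ε : ℂ) * Cfsg.classInner (ψ : G → ℂ) (star (ξ : N → ℂ))) := by
        rw [← mul_assoc, hε2, one_mul]
    _ = _ := by rw [h]; split_ifs <;> simp

omit hTI hlt in
open Classical in
/-- The value of an exceptional character. -/
theorem exists_const (χ : Cfsg.IrrCharacter N) (hχ : Relevant K' (χ : N → ℂ)) :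
    ∃ (ε : ℤ) (ψ : Cfsg.IrrCharacter G) (C : ℂ), (ε = 1 ∨ ε = -1) ∧
      star (χ : N → ℂ) = (ε : ℂ) • (ψ : G → ℂ) ∧
      (∀ k : N, (k : G) ∈ K → k ≠ 1 → star (χ : N → ℂ) k - (χ : N → ℂ) k = C) ∧
      ∀ d : ℕ, (χ : N → ℂ) 1 = ((K' : Subgroup N).index : ℂ) * d → ∃ z : ℤ, C * d = z := by
  obtain ⟨ε, ψ, hε, he, hs⟩ := exists_signed hS hstar χ hχ
  obtain ⟨q, lam, hval, hc⟩ := exists_restrict_eq hC hS hstar hext χ hχ ψ
  have hε2 : (ε : ℂ) * ε = 1 := by rcases hε with rfl | rfl <;> simp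
  refine ⟨ε, ψ, (ε : ℂ) * ((q : ℂ) - ((K' : Subgroup N).index : ℂ) * lam), hε, he,
    fun k hk hk1 => ?_, fun d hd => ?_⟩
  · rw [he, Pi.smul_apply, smul_eq_mul, hval k hk hk1,
      Finset.sum_congr rfl (fun ξ hξ => by rw [hs ξ (Finset.mem_filter.mp hξ).2, ite_mul, zero_mul]),
      Finset.sum_ite_eq', if_pos (show χ ∈ Finset.univ.filter (fun ξ : Cfsg.IrrCharacter N => Relevant K' (ξ : N → ℂ))
        from Finset.mem_filter.mpr ⟨Finset.mem_univ χ, hχ⟩)]
    linear_combination (χ : N → ℂ) k * hε2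
  · obtain ⟨c, hc⟩ := hc χ hχ
    rw [hs χ hχ, if_pos rfl, hd] at hc
    refine ⟨ε * (q * d - c + ε), ?_⟩
    push_cast
    linear_combination (ε : ℂ) * hc

omit hTI hlt in
/-- A character of which no signed multiple is an image is constant on the non-identity elements
of `K`. -/
theorem constant_of_notMem (χ₀ : Cfsg.IrrCharacter N) (hχ₀ : Relevant K' (χ₀ : N → ℂ))
    (ψ : Cfsg.IrrCharacter G) (hno : ∀ χ ∈ S, (ψ : G → ℂ) ≠ star χ ∧ (ψ : G → ℂ) ≠ -star χ)
    {k l : N} (hk : (k : G) ∈ K) (hl : (l : G) ∈ K) (hk1 : k ≠ 1) (hl1 : l ≠ 1) :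
    (ψ : G → ℂ) k = (ψ : G → ℂ) l := by
  classical
  obtain ⟨q, lam, hval, -⟩ := exists_restrict_eq hC hS hstar hext χ₀ hχ₀ ψ
  have hz : ∀ χ ∈ Finset.univ.filter (fun χ : Cfsg.IrrCharacter N => Relevant K' (χ : N → ℂ)),
      Cfsg.classInner (ψ : G → ℂ) (star (χ : N → ℂ)) = 0 := by
    intro χ hχ
    obtain ⟨ε, φ, hε, he, -⟩ := exists_signed hS hstar χ (Finset.mem_filter.mp hχ).2
    have hmem : (χ : N → ℂ) ∈ S := (hS _).mpr ⟨χ.2, (Finset.mem_filter.mp hχ).2⟩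
    rw [he, Chars.classInner_smul_right, Chars.classInner_irr_of_ne, mul_zero]
    rintro rfl
    rcases hε with rfl | rfl
    · exact (hno _ hmem).1 (by rw [he]; simp)
    · exact (hno _ hmem).2 (by rw [he]; simp)
  rw [hval k hk hk1, hval l hl hl1, Finset.sum_eq_zero (fun χ hχ => by rw [hz χ hχ, zero_mul]),
    Finset.sum_eq_zero (fun χ hχ => by rw [hz χ hχ, zero_mul])]

end Cfsg.Agent.Lib.TIFrob
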